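import Cfsg.Agent.H539.Lim.Defs

/-!
# S5242, pieces A1 and A2 (helper223)

`dd_dd`, `dd_smul`, `van_two1`, `van_two2`, `van_two2'`, `van_two3`, and the truncation `tr`.
-/

set_option autoImplicit false

namespace Cfsg.Agent.H223.Lim

open MulAction Cfsg.Agent.H539.Lim

universe u v w

variable {G : Type u} [Group G] {Ω : Type v} [MulAction G Ω] {D : Type w} [AddCommGroup D]
  [DistribMulAction G D]

/-! ## A1 -/

omit [DistribMulAction G D] in
theorem dd_eq {Ω : Type v} {D : Type w} [AddCommGroup D] {k : ℕ} (c : (Fin k → Ω) → D) (x : Fin (k + 1) → Ω) :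
    dd c x = ∑ i : Fin (k + 1), ((-1 : ℤ) ^ (i : ℕ)) • c (fun j => x (i.succAbove j)) := rfl

theorem dd_dd {Ω : Type v} {D : Type w} [AddCommGroup D] {k : ℕ} (c : (Fin k → Ω) → D)
    (x : Fin (k + 2) → Ω) : dd (dd c) x = 0 := by
  have h1 : dd (dd c) x = ∑ p : Fin (k + 2) × Fin (k + 1),
      ((-1 : ℤ) ^ ((p.1 : ℕ) + (p.2 : ℕ))) • c (fun j => x (p.1.succAbove (p.2.succAbove j))) := by
    rw [Fintype.sum_prod_type, dd_eq]
    refine Finset.sum_congr rfl fun i _ => ?_
    rw [dd_eq, Finset.smul_sum]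
    refine Finset.sum_congr rfl fun j _ => ?_
    rw [smul_smul, pow_add]
  rw [h1]
  refine Finset.sum_involution (fun p _ => (p.1.succAbove p.2, p.2.predAbove p.1)) ?_ ?_ ?_ ?_
  · rintro ⟨i, j⟩ -
    have h2 : (fun l => x ((i.succAbove j).succAbove ((j.predAbove i).succAbove l))) =
        fun l => x (i.succAbove (j.succAbove l)) := by
      funext l
      rw [Fin.succAbove_succAbove_succAbove_predAbove]
    have h3 : ((-1 : ℤ) ^ (((i.succAbove j : Fin (k + 2)) : ℕ) + ((j.predAbove i : Fin (k + 1)) : ℕ))) =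
        -((-1 : ℤ) ^ ((i : ℕ) + (j : ℕ))) := by
      rcases Fin.lt_or_ge j.castSucc i with h | h
      · rw [Fin.succAbove_of_castSucc_lt _ _ h, Fin.predAbove_of_castSucc_lt _ _ h]
        have h0 : (j : ℕ) < i := h
        simp only [Fin.val_castSucc, Fin.val_pred]
        obtain ⟨m, hm⟩ : ∃ m, (i : ℕ) = m + 1 := ⟨(i : ℕ) - 1, by omega⟩
        rw [hm, Nat.add_sub_cancel]
        ring
      · rw [Fin.succAbove_of_le_castSucc _ _ h, Fin.predAbove_of_le_castSucc _ _ h]
        simp only [Fin.val_succ, Fin.coe_castPred]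
        ring
    change ((-1 : ℤ) ^ ((i : ℕ) + (j : ℕ))) • c (fun l => x (i.succAbove (j.succAbove l))) +
      ((-1 : ℤ) ^ (((i.succAbove j : Fin (k + 2)) : ℕ) + ((j.predAbove i : Fin (k + 1)) : ℕ))) •
        c (fun l => x ((i.succAbove j).succAbove ((j.predAbove i).succAbove l))) = 0
    rw [h2, h3, neg_smul, add_neg_cancel]
  · rintro ⟨i, j⟩ - - h
    exact Fin.succAbove_ne i j (congrArg Prod.fst h)
  · rintro ⟨i, j⟩ -
    exact Finset.mem_univ _
  · rintro ⟨i, j⟩ -
    apply Prod.ext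
    · exact Fin.succAbove_succAbove_predAbove i j
    · exact Fin.predAbove_predAbove_succAbove i j

theorem dd_smul {k : ℕ} (c : (Fin k → Ω) → D) (hc : ∀ (g : G) (x : Fin k → Ω), c (g • x) = g • c x)
    (g : G) (x : Fin (k + 1) → Ω) : dd c (g • x) = g • dd c x := by
  rw [dd_eq, dd_eq, Finset.smul_sum]
  refine Finset.sum_congr rfl fun i _ => ?_
  have h1 : (fun j => (g • x) (i.succAbove j)) = g • fun j => x (i.succAbove j) := rfl
  rw [h1, hc, smul_comm]

section Lin

omit [MulAction G Ω] [DistribMulAction G D]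

theorem dd_congr {k : ℕ} {c c' : (Fin k → Ω) → D} {x : Fin (k + 1) → Ω}
    (h : ∀ i : Fin (k + 1), c (fun j => x (i.succAbove j)) = c' (fun j => x (i.succAbove j))) :
    dd c x = dd c' x := by
  rw [dd_eq, dd_eq]
  exact Finset.sum_congr rfl fun i _ => by rw [h i]

theorem dd_eq_zero {k : ℕ} {c : (Fin k → Ω) → D} {x : Fin (k + 1) → Ω}
    (h : ∀ i : Fin (k + 1), c (fun j => x (i.succAbove j)) = 0) : dd c x = 0 := by
  rw [dd_eq]
  exact Finset.sum_eq_zero fun i _ => by rw [h i, smul_zero]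

theorem dd_add {k : ℕ} (c c' : (Fin k → Ω) → D) (x : Fin (k + 1) → Ω) :
    dd (fun y => c y + c' y) x = dd c x + dd c' x := by
  rw [dd_eq, dd_eq, dd_eq, ← Finset.sum_add_distrib]
  exact Finset.sum_congr rfl fun i _ => by rw [smul_add]

theorem dd_sub {k : ℕ} (c c' : (Fin k → Ω) → D) (x : Fin (k + 1) → Ω) :
    dd (fun y => c y - c' y) x = dd c x - dd c' x := by
  rw [dd_eq, dd_eq, dd_eq, ← Finset.sum_sub_distrib]
  exact Finset.sum_congr rfl fun i _ => by rw [smul_sub]

theorem dd_neg {k : ℕ} (c : (Fin k → Ω) → D) (x : Fin (k + 1) → Ω) :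
    dd (fun y => -c y) x = -dd c x := by
  rw [dd_eq, dd_eq, ← Finset.sum_neg_distrib]
  exact Finset.sum_congr rfl fun i _ => by rw [smul_neg]

end Lin

/-! ## stabilizers and truncation -/

theorem st_face_le {k : ℕ} (x : Fin (k + 1) → Ω) (i : Fin (k + 1)) :
    st G x ≤ st G (fun j => x (i.succAbove j)) := Coef.st_succAbove_le G x i

theorem st_smul {k : ℕ} (g : G) (x : Fin k → Ω) : st G (g • x) = cj g (st G x) :=
  MulAction.stabilizer_smul_eq_stabilizer_map_conj g x

theorem cj_mem_iff {V : Set (Subgroup G)} (hV : IsInv V) (g : G) (P : Subgroup G) : cj g P ∈ V ↔ P ∈ V := by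
  constructor
  · intro h
    have h1 := hV g⁻¹ _ h
    have h2 : cj g⁻¹ (cj g P) = P := by
      ext u
      simp only [Subgroup.mem_map, MulEquiv.coe_toMonoidHom, MulAut.conj_apply, inv_inv]
      constructor
      · rintro ⟨_, ⟨w, hw, rfl⟩, rfl⟩
        have : g⁻¹ * (g * w * g⁻¹) * g = w := by group
        rw [this]; exact hw
      · intro hu
        exact ⟨_, ⟨u, hu, rfl⟩, by group⟩
    rwa [h2] at h1
  · exact hV g P

theorem st_smul_mem_iff {V : Set (Subgroup G)} (hV : IsInv V) {k : ℕ} (g : G) (x : Fin k → Ω) :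
    st G (g • x) ∈ V ↔ st G x ∈ V := by
  rw [st_smul, cj_mem_iff hV]

theorem isInv_inter {V U : Set (Subgroup G)} (hV : IsInv V) (hU : IsInv U) : IsInv (V ∩ U) :=
  fun g P h => ⟨hV g P h.1, hU g P h.2⟩

theorem isInv_diff {V U : Set (Subgroup G)} (hV : IsInv V) (hU : IsInv U) : IsInv (V \ U) :=
  fun g P h => ⟨hV g P h.1, fun h' => h.2 ((cj_mem_iff hU g P).1 h')⟩

open Classical in
/-- truncation of a function to the tuples with stabilizer in `V` -/
noncomputable def tr (V : Set (Subgroup G)) {k : ℕ} (f : (Fin k → Ω) → D) (x : Fin k → Ω) : D :=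
  if st G x ∈ V then f x else 0

omit [DistribMulAction G D] in
theorem tr_of_mem {V : Set (Subgroup G)} {k : ℕ} (f : (Fin k → Ω) → D) {x : Fin k → Ω} (h : st G x ∈ V) :
    tr V f x = f x := if_pos h

omit [DistribMulAction G D] in
theorem tr_of_not_mem {V : Set (Subgroup G)} {k : ℕ} (f : (Fin k → Ω) → D) {x : Fin k → Ω}
    (h : st G x ∉ V) : tr V f x = 0 := if_neg h

theorem tr_smul {V : Set (Subgroup G)} (hV : IsInv V) {k : ℕ} {f : (Fin k → Ω) → D}
    (hf : ∀ (g : G) (x : Fin k → Ω), f (g • x) = g • f x) (g : G) (x : Fin k → Ω) :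
    tr V f (g • x) = g • tr V f x := by
  by_cases h : st G x ∈ V
  · rw [tr_of_mem f h, tr_of_mem f ((st_smul_mem_iff hV g x).2 h), hf]
  · rw [tr_of_not_mem f h, tr_of_not_mem f (fun h' => h ((st_smul_mem_iff hV g x).1 h')), smul_zero]

/-- the truncation of an equivariant function is a cochain -/
theorem isCoch_tr {V : Set (Subgroup G)} (hV : IsInv V) {k : ℕ} {f : (Fin k → Ω) → D}
    (hf : ∀ (g : G) (x : Fin k → Ω), f (g • x) = g • f x) : IsCoch V (tr V f) :=
  ⟨fun g x => tr_smul hV hf g x, fun _ h => tr_of_not_mem f h⟩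

theorem isCoch_mono {V V' : Set (Subgroup G)} (h : V ⊆ V') {k : ℕ} {c : (Fin k → Ω) → D} (hc : IsCoch V c) :
    IsCoch V' c := ⟨hc.smul, fun x hx => hc.supp x fun h' => hx (h h')⟩

theorem isCoch_add {V : Set (Subgroup G)} {k : ℕ} {c c' : (Fin k → Ω) → D} (hc : IsCoch V c)
    (hc' : IsCoch V c') : IsCoch V (fun x => c x + c' x) :=
  ⟨fun g x => by rw [hc.smul, hc'.smul, smul_add], fun x hx => by rw [hc.supp x hx, hc'.supp x hx, add_zero]⟩

theorem isCoch_sub {V : Set (Subgroup G)} {k : ℕ} {c c' : (Fin k → Ω) → D} (hc : IsCoch V c)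
    (hc' : IsCoch V c') : IsCoch V (fun x => c x - c' x) :=
  ⟨fun g x => by rw [hc.smul, hc'.smul, smul_sub], fun x hx => by rw [hc.supp x hx, hc'.supp x hx, sub_zero]⟩

omit [DistribMulAction G D] in
/-- a coboundary of a function supported on the convex set `V` vanishes outside of `V` at the faces of the tuples with
stabilizer in `V` -/
theorem tr_dd_face {V : Set (Subgroup G)} (hV : V.OrdConnected) {k : ℕ} {b : (Fin k → Ω) → D}
    (hb : ∀ x, st G x ∉ V → b x = 0) {x : Fin (k + 2) → Ω} (hx : st G x ∈ V) (i : Fin (k + 2)) :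
    tr V (dd b) (fun j => x (i.succAbove j)) = dd b (fun j => x (i.succAbove j)) := by
  by_cases h : st G (fun j => x (i.succAbove j)) ∈ V
  · exact tr_of_mem _ h
  · rw [tr_of_not_mem _ h]
    symm
    apply dd_eq_zero
    intro l
    apply hb
    intro h'
    exact h (hV.out hx h' ⟨st_face_le x i, st_face_le (fun j => x (i.succAbove j)) l⟩)

omit [DistribMulAction G D] in
theorem dd_tr_dd {V : Set (Subgroup G)} (hV : V.OrdConnected) {k : ℕ} {b : (Fin k → Ω) → D}
    (hb : ∀ x, st G x ∉ V → b x = 0) {x : Fin (k + 2) → Ω} (hx : st G x ∈ V) :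
    dd (tr V (dd b)) x = 0 := by
  rw [dd_congr (fun i => tr_dd_face hV hb hx i)]
  exact dd_dd b x

omit [DistribMulAction G D] in
/-- restriction to an upper set does not change the coboundary on the upper set -/
theorem dd_tr_inter {V U : Set (Subgroup G)} (hU : IsUpperSet U) {k : ℕ} {c : (Fin k → Ω) → D}
    (hc : ∀ x, st G x ∉ V → c x = 0) {x : Fin (k + 1) → Ω} (hx : st G x ∈ U) :
    dd (tr (V ∩ U) c) x = dd c x := by
  apply dd_congr
  intro i
  have h1 : st G (fun j => x (i.succAbove j)) ∈ U := hU (st_face_le x i) hx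
  by_cases h : st G (fun j => x (i.succAbove j)) ∈ V
  · exact tr_of_mem (V := V ∩ U) _ ⟨h, h1⟩
  · rw [tr_of_not_mem _ (fun h' => h h'.1), hc _ h]

omit [DistribMulAction G D] in
/-- a function vanishing on the upper set `U` has vanishing coboundary on `U` -/
theorem dd_zero_of_upper {U : Set (Subgroup G)} (hU : IsUpperSet U) {k : ℕ} {c : (Fin k → Ω) → D}
    (hc : ∀ x, st G x ∈ U → c x = 0) {x : Fin (k + 1) → Ω} (hx : st G x ∈ U) : dd c x = 0 :=
  dd_eq_zero fun i => hc _ (hU (st_face_le x i) hx)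

/-! ## A2: two out of three -/

theorem van_two1 {V U : Set (Subgroup G)} (hV : V.OrdConnected) (hVi : IsInv V) (hU : IsUpperSet U)
    (hUi : IsInv U) {n : ℕ} (h1 : Van G Ω D (V \ U) n) (h2 : Van G Ω D (V ∩ U) n) : Van G Ω D V n := by
  cases n with
  | zero =>
    intro c hc hcc
    have hc2 : IsCoch (V ∩ U) (tr (V ∩ U) c) := isCoch_tr (isInv_inter hVi hUi) hc.smul
    have h3 := h2 _ hc2 (fun x hx => by rw [dd_tr_inter hU hc.supp hx.2]; exact hcc x hx.1)
    have hc1 : IsCoch (V \ U) c := by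
      refine ⟨hc.smul, fun x hx => ?_⟩
      by_cases hxV : st G x ∈ V
      · have hxU : st G x ∈ U := by
          by_contra h
          exact hx ⟨hxV, h⟩
        have := h3 x
        rwa [tr_of_mem (V := V ∩ U) _ ⟨hxV, hxU⟩] at this
      · exact hc.supp x hxV
    exact h1 c hc1 (fun x hx => hcc x hx.1)
  | succ n =>
    intro c hc hcc
    have hc2 : IsCoch (V ∩ U) (tr (V ∩ U) c) := isCoch_tr (isInv_inter hVi hUi) hc.smul
    obtain ⟨b2, hb2, hb2c⟩ := h2 _ hc2 (fun x hx => by rw [dd_tr_inter hU hc.supp hx.2]; exact hcc x hx.1)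
    have hb2V : IsCoch V b2 := isCoch_mono Set.inter_subset_left hb2
    have hcoch1 : IsCoch V (fun x => c x - tr V (dd b2) x) :=
      isCoch_sub hc (isCoch_tr hVi (fun g x => dd_smul b2 hb2.smul g x))
    have hc1 : IsCoch (V \ U) (fun x => c x - tr V (dd b2) x) := by
      refine ⟨hcoch1.smul, fun x hx => ?_⟩
      by_cases hxV : st G x ∈ V
      · have hxU : st G x ∈ U := by
          by_contra h
          exact hx ⟨hxV, h⟩
        have h4 := hb2c x ⟨hxV, hxU⟩
        rw [tr_of_mem (V := V ∩ U) _ ⟨hxV, hxU⟩] at h4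
        change c x - tr V (dd b2) x = 0
        rw [tr_of_mem _ hxV, h4, sub_self]
      · exact hcoch1.supp x hxV
    obtain ⟨b1, hb1, hb1c⟩ := h1 _ hc1 (fun x hx => by
      rw [dd_sub, hcc x hx.1, dd_tr_dd hV hb2V.supp hx.1, sub_zero])
    refine ⟨fun x => b1 x + b2 x, isCoch_add (isCoch_mono Set.sdiff_subset hb1) hb2V, fun x hx => ?_⟩
    rw [dd_add]
    by_cases hxU : st G x ∈ U
    · have h4 := hb2c x ⟨hx, hxU⟩
      rw [tr_of_mem (V := V ∩ U) _ ⟨hx, hxU⟩] at h4
      rw [dd_zero_of_upper hU (fun y hy => hb1.supp y fun h => h.2 hy) hxU, zero_add, h4]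
    · have h4 := hb1c x ⟨hx, hxU⟩
      change c x - tr V (dd b2) x = dd b1 x at h4
      rw [tr_of_mem _ hx] at h4
      rw [← h4, sub_add_cancel]

theorem van_two2 {V U : Set (Subgroup G)} (hV : V.OrdConnected) (hVi : IsInv V) (hU : IsUpperSet U)
    (hUi : IsInv U) {n : ℕ} (h1 : Van G Ω D V (n + 1)) (h2 : Van G Ω D (V ∩ U) n) :
    Van G Ω D (V \ U) (n + 1) := by
  intro c hc hcc
  have hcV : IsCoch V c := isCoch_mono Set.sdiff_subset hc
  have hczero : ∀ x, st G x ∈ U → c x = 0 := fun x hx => hc.supp x fun h => h.2 hx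
  obtain ⟨b, hb, hbc⟩ := h1 c hcV (fun x hx => by
    by_cases hxU : st G x ∈ U
    · exact dd_zero_of_upper hU hczero hxU
    · exact hcc x ⟨hx, hxU⟩)
  have hb2 : IsCoch (V ∩ U) (tr (V ∩ U) b) := isCoch_tr (isInv_inter hVi hUi) hb.smul
  have hb2c : IsCoc (G := G) (V ∩ U) (tr (V ∩ U) b) := fun x hx => by
    rw [dd_tr_inter hU hb.supp hx.2, ← hbc x hx.1]
    exact hczero x hx.2
  cases n with
  | zero =>
    have h3 := h2 _ hb2 hb2c
    refine ⟨b, ⟨hb.smul, fun x hx => ?_⟩, fun x hx => hbc x hx.1⟩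
    by_cases hxV : st G x ∈ V
    · have hxU : st G x ∈ U := by
        by_contra h
        exact hx ⟨hxV, h⟩
      have := h3 x
      rwa [tr_of_mem (V := V ∩ U) _ ⟨hxV, hxU⟩] at this
    · exact hb.supp x hxV
  | succ n =>
    obtain ⟨a, ha, hac⟩ := h2 _ hb2 hb2c
    have haV : IsCoch V a := isCoch_mono Set.inter_subset_left ha
    have hcoch : IsCoch V (fun x => b x - tr V (dd a) x) :=
      isCoch_sub hb (isCoch_tr hVi (fun g x => dd_smul a ha.smul g x))
    refine ⟨fun x => b x - tr V (dd a) x, ⟨hcoch.smul, fun x hx => ?_⟩, fun x hx => ?_⟩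
    · by_cases hxV : st G x ∈ V
      · have hxU : st G x ∈ U := by
          by_contra h
          exact hx ⟨hxV, h⟩
        have h4 := hac x ⟨hxV, hxU⟩
        rw [tr_of_mem (V := V ∩ U) _ ⟨hxV, hxU⟩] at h4
        change b x - tr V (dd a) x = 0
        rw [tr_of_mem _ hxV, h4, sub_self]
      · exact hcoch.supp x hxV
    · rw [dd_sub, dd_tr_dd hV haV.supp hx.1, sub_zero]
      exact hbc x hx.1

theorem van_two2' {V U : Set (Subgroup G)} (hV : V.OrdConnected) (hVi : IsInv V) (hU : IsUpperSet U)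
    (hUi : IsInv U) (h1 : Van G Ω D V 1)
    (h2 : ∀ b : (Fin 1 → Ω) → D, IsCoch (V ∩ U) b → IsCoc (G := G) (V ∩ U) b →
      ∃ b' : (Fin 1 → Ω) → D, IsCoch V b' ∧ IsCoc (G := G) V b' ∧ ∀ x, st G x ∈ U → b' x = b x) :
    Van G Ω D (V \ U) 1 := by
  intro c hc hcc
  have hcV : IsCoch V c := isCoch_mono Set.sdiff_subset hc
  have hczero : ∀ x, st G x ∈ U → c x = 0 := fun x hx => hc.supp x fun h => h.2 hx
  obtain ⟨b, hb, hbc⟩ := h1 c hcV (fun x hx => by
    by_cases hxU : st G x ∈ U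
    · exact dd_zero_of_upper hU hczero hxU
    · exact hcc x ⟨hx, hxU⟩)
  have hb2 : IsCoch (V ∩ U) (tr (V ∩ U) b) := isCoch_tr (isInv_inter hVi hUi) hb.smul
  have hb2c : IsCoc (G := G) (V ∩ U) (tr (V ∩ U) b) := fun x hx => by
    rw [dd_tr_inter hU hb.supp hx.2, ← hbc x hx.1]
    exact hczero x hx.2
  obtain ⟨b', hb', hb'c, hb'e⟩ := h2 _ hb2 hb2c
  refine ⟨fun x => b x - b' x, ⟨(isCoch_sub hb hb').smul, fun x hx => ?_⟩, fun x hx => ?_⟩
  · by_cases hxV : st G x ∈ V
    · have hxU : st G x ∈ U := by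
        by_contra h
        exact hx ⟨hxV, h⟩
      rw [hb'e x hxU, tr_of_mem (V := V ∩ U) _ ⟨hxV, hxU⟩, sub_self]
    · exact (isCoch_sub hb hb').supp x hxV
  · rw [dd_sub, hb'c x hx.1, sub_zero]
    exact hbc x hx.1

theorem van_two3 {V U : Set (Subgroup G)} (hV : V.OrdConnected) (hVi : IsInv V) (hU : IsUpperSet U)
    (hUi : IsInv U) {n : ℕ} (h1 : Van G Ω D V n) (h2 : Van G Ω D (V \ U) (n + 1)) :
    Van G Ω D (V ∩ U) n := by
  -- the common part
  have key : ∀ c : (Fin (n + 1) → Ω) → D, IsCoch (V ∩ U) c → IsCoc (G := G) (V ∩ U) c →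
      ∃ b : (Fin (n + 1) → Ω) → D, IsCoch (V \ U) b ∧ IsCoch V (fun x => c x - b x) ∧
        IsCoc (G := G) V (fun x => c x - b x) := by
    intro c hc hcc
    have hcV : IsCoch V c := isCoch_mono Set.inter_subset_left hc
    have hcoch : IsCoch V (tr V (dd c)) := isCoch_tr hVi (fun g x => dd_smul c hc.smul g x)
    have hcoch' : IsCoch (V \ U) (tr V (dd c)) := by
      refine ⟨hcoch.smul, fun x hx => ?_⟩
      by_cases hxV : st G x ∈ V
      · have hxU : st G x ∈ U := by
          by_contra h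
          exact hx ⟨hxV, h⟩
        rw [tr_of_mem _ hxV]
        exact hcc x ⟨hxV, hxU⟩
      · exact hcoch.supp x hxV
    obtain ⟨b, hb, hbc⟩ := h2 _ hcoch' (fun x hx => dd_tr_dd hV hcV.supp hx.1)
    refine ⟨b, hb, isCoch_sub hcV (isCoch_mono Set.sdiff_subset hb), fun x hx => ?_⟩
    rw [dd_sub]
    by_cases hxU : st G x ∈ U
    · rw [hcc x ⟨hx, hxU⟩, dd_zero_of_upper hU (fun y hy => hb.supp y fun h => h.2 hy) hxU, sub_zero]
    · have h4 := hbc x ⟨hx, hxU⟩
      rw [tr_of_mem _ hx] at h4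
      rw [h4, sub_self]
  cases n with
  | zero =>
    intro c hc hcc x
    obtain ⟨b, hb, hcb, hcbc⟩ := key c hc hcc
    have h3 := h1 _ hcb hcbc x
    change c x - b x = 0 at h3
    by_cases hxU : st G x ∈ U
    · rw [hb.supp x (fun h => h.2 hxU), sub_zero] at h3
      exact h3
    · exact hc.supp x fun h => hxU h.2
  | succ n =>
    intro c hc hcc
    obtain ⟨b, hb, hcb, hcbc⟩ := key c hc hcc
    obtain ⟨a, ha, hac⟩ := h1 _ hcb hcbc
    refine ⟨tr (V ∩ U) a, isCoch_tr (isInv_inter hVi hUi) ha.smul, fun x hx => ?_⟩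
    rw [dd_tr_inter hU ha.supp hx.2, ← hac x hx.1]
    change c x = c x - b x
    rw [hb.supp x (fun h => h.2 hx.2), sub_zero]

end Cfsg.Agent.H223.Lim
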