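import Cfsg.Agent.H223.Lim.Basic
import Cfsg.Agent.H842.Lim.Basic

/-!
# S5242: filtrations
-/

set_option autoImplicit false

namespace Cfsg.Agent.H223.Lim

open Cfsg Cfsg.Agent.H539.Lim

variable {G : Type*} [Group G] {Ω : Type*} [MulAction G Ω] {D : Type*} [AddCommGroup D]
  [DistribMulAction G D]

theorem van_of_filt [Finite G] {V : Set (Subgroup G)} (hV : V.OrdConnected) (hVi : IsInv V)
    (f : Subgroup G → ℕ) (hf : ∀ P ∈ V, ∀ Q ∈ V, P ≤ Q → f P ≤ f Q)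
    (hfi : ∀ (g : G), ∀ P ∈ V, f (cj g P) = f P) (n : ℕ)
    (h : ∀ i, Van G Ω D {P | P ∈ V ∧ f P = i} n) : Van G Ω D V n :=
  Cfsg.Agent.H842.Lim.van_of_filt_aux n
    (fun {V U} hV hVi hU hUi h1 h2 => van_two1 (V := V) (U := U) hV hVi hU hUi h1 h2) hV hVi f hf hfi h

end Cfsg.Agent.H223.Lim
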